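import Cfsg.Agent.Coset.He.Inv2B
import Cfsg.Agent.Coset.He.Out.Data

/-!
Elements of the centraliser of `g` as packed permutations of sixteen points, and an enumeration of
the centraliser along a base.
-/

set_option autoImplicit false
set_option maxRecDepth 100000
set_option Elab.async false

namespace CfsgLib.Coset.He.Out

open CfsgLib.Coset Inv2B

section Kernel

/-- The sixteen points, base points first. -/
def pts : List Nat := [0, 2, 4, 8, 1, 3, 5, 6, 7, 9, 10, 11, 12, 13, 14, 15]

/-- A packed permutation, applied. -/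
noncomputable def app (p v : Nat) : Nat := Nat.land (Nat.shiftRight p (Nat.mul 4 v)) 15

/-- A product of packed permutations, in the direction of the table, applied. -/
noncomputable def fol (ps : List Nat) (u : List Nat) : Nat → Nat :=
  List.rec (fun v => v) (fun l _ ih v => ih (app (ps.getD l 0) v)) u

/-- A function fixes the sixteen points. -/
noncomputable def isId (f : Nat → Nat) : Bool := allList (fun v => Nat.beq (f v) v) pts

/-- Two functions agree on the sixteen points. -/
noncomputable def eqv (f g : Nat → Nat) : Bool := allList (fun v => Nat.beq (f v) (g v)) pts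

/-- Some member of a list passes. -/
noncomputable def anyL {α : Type} (p : α → Bool) (l : List α) : Bool :=
  List.rec false (fun x _ ih => cond (p x) true ih) l

/-- An element of a transversal, as a packed permutation. -/
noncomputable def tp (j i : Nat) : Nat := (TP.getD j []).getD i 0

/-- An element of a transversal, as a word. -/
noncomputable def tw (j i : Nat) : List Nat := (TW.getD j []).getD i []

/-- An element of the centraliser by coordinates, applied. -/
noncomputable def el4 (a b c d v : Nat) : Nat :=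
  app (tp 0 a) (app (tp 1 b) (app (tp 2 c) (app (tp 3 d) v)))

/-- An element of the centraliser by index, applied. -/
noncomputable def elf (k v : Nat) : Nat :=
  el4 (Nat.div k 1344) (Nat.mod (Nat.div k 96) 14) (Nat.mod (Nat.div k 8) 12) (Nat.mod k 8) v

/-- The conditions on an extended list of images hold. -/
noncomputable def testsOK (ps : List Nat) (ts : List (List Nat × Bool)) : Bool :=
  allList (fun t => cond (isId (fol ps t.1)) t.2 (cond t.2 false true)) ts

end Kernel

theorem anyL_iff {α : Type} {p : α → Bool} {l : List α} :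
    anyL p l = true ↔ ∃ x ∈ l, p x = true := by
  induction l with
  | nil => simp [anyL]
  | cons x l ih =>
    show cond (p x) true (anyL p l) = true ↔ _
    cases h : p x
    · simp [ih, h]
    · simp [h]

theorem mem_pts : ∀ v : Fin 16, (v : Nat) ∈ pts := by decide

theorem lt_of_mem_pts : ∀ v ∈ pts, v < 16 := by decide

theorem eqv_iff {f g : Nat → Nat} : eqv f g = true ↔ ∀ v : Fin 16, f v = g v := by
  refine ⟨fun h v => Nat.eq_of_beq_eq_true (allList_iff.mp h v (mem_pts v)), fun h => ?_⟩
  exact allList_iff.mpr fun i hi => by rw [h ⟨i, lt_of_mem_pts i hi⟩]; exact Nat.beq_refl _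

/-- An element of the centraliser as a permutation, in the direction of the table. -/
noncomputable def sg (x : Cz) (v : Fin 16) : Fin 16 := (act16 x)⁻¹ v

theorem sg_mul (x y : Cz) (v : Fin 16) : sg (x * y) v = sg y (sg x v) := by
  simp [sg]

theorem sg_one (v : Fin 16) : sg 1 v = v := by simp [sg]

theorem sg_surj (x : Cz) : Function.Surjective (sg x) := (act16 x)⁻¹.surjective

theorem sg_ext {x y : Cz} (h : ∀ v, sg x v = sg y v) : x = y :=
  act16_injective (inv_injective (Equiv.ext h))

/-- An element acts as the given function. -/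
def Rep (x : Cz) (f : Nat → Nat) : Prop := ∀ v : Fin 16, (sg x v : Nat) = f v

theorem Rep.ext {x y : Cz} {f g : Nat → Nat} (hx : Rep x f) (hy : Rep y g)
    (h : eqv f g = true) : x = y :=
  sg_ext fun v => Fin.ext (by rw [hx v, hy v, eqv_iff.mp h v])

theorem Rep.congr {x : Cz} {f g : Nat → Nat} (hx : Rep x f) (h : eqv f g = true) : Rep x g :=
  fun v => (hx v).trans (eqv_iff.mp h v)

theorem Rep.one : Rep 1 (fun v => v) := fun v => by rw [sg_one]

theorem Rep.mul {x y : Cz} {f g : Nat → Nat} (hx : Rep x f) (hy : Rep y g) :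
    Rep (x * y) (fun v => g (f v)) := fun v => by
  rw [sg_mul, hy (sg x v), hx v]

theorem Rep.isId_iff {x : Cz} {f : Nat → Nat} (hx : Rep x f) : isId f = true ↔ x = 1 := by
  refine ⟨fun h => sg_ext fun v => Fin.ext ?_, fun h => ?_⟩
  · rw [hx v, sg_one]; exact Nat.eq_of_beq_eq_true (allList_iff.mp h v (mem_pts v))
  · subst h
    refine allList_iff.mpr fun i hi => ?_
    have := hx ⟨i, lt_of_mem_pts i hi⟩
    rw [sg_one] at this
    rw [← this]; exact Nat.beq_refl _

theorem Rep.ev_fol {L : List Cz} {ps : List Nat} (h : ∀ l < L.length, Rep (fl L l) (app (ps.getD l 0))) :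
    ∀ u : List Nat, (∀ l ∈ u, l < L.length) → Rep (ev L u) (fol ps u)
  | [], _ => by rw [ev_nil]; exact Rep.one
  | l :: u, hu => by
    rw [ev_cons]
    exact (h l (hu l (by simp))).mul (Rep.ev_fol h u fun x hx => hu x (by simp [hx]))

/-! ### The enumeration -/

theorem sg_ev (w : List Nat) (hw : ∀ l ∈ w, l < (Lc).length) (v : Fin 16) :
    (sg (ev Lc w) v : Nat) = follow (tget Tb16) v w :=
  matches16.follow_eq w v hw

/-- An element of a transversal. -/
noncomputable def tr (j i : Nat) : Cz := ev Lc (tw j i)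

theorem tw_ok : allBelow 2 4 (fun j => allBelow 4 16 fun i => cond (checkLetters 4 [tw j i])
    (allBelow 4 16 fun v => cond (Nat.ble (Nat.add i 1) (TP.getD j []).length)
      (Nat.beq (follow (tget Tb16) v (tw j i)) (app (tp j i) v)) true) false) = true := by
  decide +kernel

/-- The word of an element by index. -/
noncomputable def elW (k : Nat) : List Nat :=
  tw 3 (Nat.mod k 8) ++ (tw 2 (Nat.mod (Nat.div k 8) 12) ++
    (tw 1 (Nat.mod (Nat.div k 96) 14) ++ tw 0 (Nat.div k 1344)))

/-- An element of the centraliser by coordinates. -/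
noncomputable def mk4 (a b c d : Nat) : Cz := tr 3 d * (tr 2 c * (tr 1 b * tr 0 a))

/-- An element of the centraliser by index. -/
noncomputable def el (k : Nat) : Cz :=
  mk4 (Nat.div k 1344) (Nat.mod (Nat.div k 96) 14) (Nat.mod (Nat.div k 8) 12) (Nat.mod k 8)

theorem el_eq_ev (k : Nat) : el k = ev Lc (elW k) := by
  simp [el, mk4, tr, elW, ev_append]

theorem coe_el (k : Nat) : ((el k : Cz) : Cfsg.Spor.He) = ev Lg (flatC (elW k)) := by
  rw [el_eq_ev, coe_ev]

theorem rep_tr (j i : Nat) (hj : j < 4) (hi : i < (TP.getD j []).length) (hi16 : i < 16) :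
    Rep (tr j i) (app (tp j i)) := by
  intro v
  have h := cond_false_eq_true.mp (of_allBelow (of_allBelow tw_ok j hj) i hi16)
  have hv := of_allBelow h.2 v v.2
  have hble : Nat.ble (Nat.add i 1) (TP.getD j []).length = true := Nat.ble_eq.mpr hi
  rw [hble, cond_true] at hv
  rw [tr, sg_ev _ (letters_lt h.1 _ (List.mem_singleton_self _)), Nat.eq_of_beq_eq_true hv]

theorem rep_mk4 {a b c d : Nat} (ha : a < 16) (hb : b < 14) (hc : c < 12) (hd : d < 8) :
    Rep (mk4 a b c d) (el4 a b c d) := by
  have h0 := rep_tr 0 a (by decide) (show a < 16 from ha) ha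
  have h1 := rep_tr 1 b (by decide) (show b < 14 from hb) (by omega)
  have h2 := rep_tr 2 c (by decide) (show c < 12 from hc) (by omega)
  have h3 := rep_tr 3 d (by decide) (show d < 8 from hd) (by omega)
  exact h3.mul (h2.mul (h1.mul h0))

theorem rep_el {k : Nat} (hk : k < 21504) : Rep (el k) (elf k) :=
  rep_mk4 (show k / 1344 < 16 by omega) (Nat.mod_lt _ (by decide)) (Nat.mod_lt _ (by decide))
    (Nat.mod_lt _ (by decide))

/-- Images of the base under the transversals are distinct, and earlier base points are fixed. -/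
noncomputable def checkTrans (j n b : Nat) (prev : List Nat) : Bool :=
  allBelow 4 n fun i => cond (allList (fun q => Nat.beq (app (tp j i) q) q) prev)
    (allBelow 4 n fun i' => cond (Nat.beq (app (tp j i) b) (app (tp j i') b)) (Nat.beq i i') true)
    false

theorem trans0 : checkTrans 0 16 0 [] = true := by decide +kernel
theorem trans1 : checkTrans 1 14 2 [0] = true := by decide +kernel
theorem trans2 : checkTrans 2 12 4 [0, 2] = true := by decide +kernel
theorem trans3 : checkTrans 3 8 8 [0, 2, 4] = true := by decide +kernel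

theorem trans_inj {j n b : Nat} {prev : List Nat} (h : checkTrans j n b prev = true) {i i' : Nat}
    (hi : i < n) (hi' : i' < n) (he : app (tp j i) b = app (tp j i') b) : i = i' := by
  have := of_allBelow (cond_false_eq_true.mp (of_allBelow h i hi)).2 i' hi'
  rw [he, Nat.beq_refl, cond_true] at this
  exact Nat.eq_of_beq_eq_true this

theorem trans_fix {j n b : Nat} {prev : List Nat} (h : checkTrans j n b prev = true) {i : Nat}
    (hi : i < n) {q : Nat} (hq : q ∈ prev) : app (tp j i) q = q :=
  Nat.eq_of_beq_eq_true (allList_iff.mp (cond_false_eq_true.mp (of_allBelow h i hi)).1 q hq)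

theorem mk4_inj {a b c d a' b' c' d' : Nat} (ha : a < 16) (ha' : a' < 16) (hb : b < 14)
    (hb' : b' < 14) (hc : c < 12) (hc' : c' < 12) (hd : d < 8) (hd' : d' < 8)
    (h : mk4 a b c d = mk4 a' b' c' d') : a = a' ∧ b = b' ∧ c = c' ∧ d = d' := by
  have r0 : ∀ {i}, i < 16 → Rep (tr 0 i) (app (tp 0 i)) := fun hi => rep_tr 0 _ (by decide) hi hi
  have r1 : ∀ {i}, i < 14 → Rep (tr 1 i) (app (tp 1 i)) := fun hi =>
    rep_tr 1 _ (by decide) hi (by omega)
  have r2 : ∀ {i}, i < 12 → Rep (tr 2 i) (app (tp 2 i)) := fun hi =>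
    rep_tr 2 _ (by decide) hi (by omega)
  have r3 : ∀ {i}, i < 8 → Rep (tr 3 i) (app (tp 3 i)) := fun hi =>
    rep_tr 3 _ (by decide) hi (by omega)
  have key : ∀ {i k l m : Nat}, i < 16 → k < 14 → l < 12 → m < 8 →
      (sg (mk4 i k l m) 0 : Nat) = app (tp 0 i) 0 := by
    intro i k l m hi hk hl hm
    rw [rep_mk4 hi hk hl hm 0]
    show el4 i k l m 0 = _
    rw [el4, trans_fix trans3 hm (q := 0) (by simp), trans_fix trans2 hl (q := 0) (by simp),
      trans_fix trans1 hk (q := 0) (by simp)]
  have e0 := key ha hb hc hd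
  rw [h, key ha' hb' hc' hd'] at e0
  obtain rfl := trans_inj trans0 ha ha' e0.symm
  have h1 : tr 3 d * (tr 2 c * tr 1 b) = tr 3 d' * (tr 2 c' * tr 1 b') := by
    have := h
    simp only [mk4] at this
    apply mul_right_cancel (b := tr 0 a)
    simpa [mul_assoc] using this
  have key1 : ∀ {k l m : Nat}, k < 14 → l < 12 → m < 8 →
      (sg (tr 3 m * (tr 2 l * tr 1 k)) 2 : Nat) = app (tp 1 k) 2 := by
    intro k l m hk hl hm
    rw [(r3 hm).mul ((r2 hl).mul (r1 hk)) 2]
    show app (tp 1 k) (app (tp 2 l) (app (tp 3 m) 2)) = _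
    rw [trans_fix trans3 hm (q := 2) (by simp), trans_fix trans2 hl (q := 2) (by simp)]
  have e1 := key1 hb hc hd
  rw [h1, key1 hb' hc' hd'] at e1
  obtain rfl := trans_inj trans1 hb hb' e1.symm
  have h2 : tr 3 d * tr 2 c = tr 3 d' * tr 2 c' := by
    apply mul_right_cancel (b := tr 1 b)
    simpa [mul_assoc] using h1
  have key2 : ∀ {l m : Nat}, l < 12 → m < 8 → (sg (tr 3 m * tr 2 l) 4 : Nat) = app (tp 2 l) 4 := by
    intro l m hl hm
    rw [(r3 hm).mul (r2 hl) 4]
    show app (tp 2 l) (app (tp 3 m) 4) = _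
    rw [trans_fix trans3 hm (q := 4) (by simp)]
  have e2 := key2 hc hd
  rw [h2, key2 hc' hd'] at e2
  obtain rfl := trans_inj trans2 hc hc' e2.symm
  have h3 : tr 3 d = tr 3 d' := mul_right_cancel h2
  have e3 : app (tp 3 d) 8 = app (tp 3 d') 8 := by
    have h4 := (r3 hd) 8
    have h5 := (r3 hd') 8
    rw [h3] at h4
    exact h4.symm.trans h5
  exact ⟨rfl, rfl, rfl, trans_inj trans3 hd hd' e3⟩

theorem exists_mk4 (x : Cz) :
    ∃ a b c d, a < 16 ∧ b < 14 ∧ c < 12 ∧ d < 8 ∧ mk4 a b c d = x := by
  have := card_le.1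
  have hbij : Function.Bijective
      (fun p : Fin 16 × Fin 14 × Fin 12 × Fin 8 => mk4 p.1 p.2.1 p.2.2.1 p.2.2.2) := by
    refine (Nat.bijective_iff_injective_and_card _).mpr ⟨fun p q h => ?_, ?_⟩
    · obtain ⟨h1, h2, h3, h4⟩ := mk4_inj p.1.2 q.1.2 p.2.1.2 q.2.1.2 p.2.2.1.2 q.2.2.1.2
        p.2.2.2.2 q.2.2.2.2 h
      exact Prod.ext (Fin.ext h1) (Prod.ext (Fin.ext h2) (Prod.ext (Fin.ext h3) (Fin.ext h4)))
    · rw [card_Cz.1]; simp
  obtain ⟨p, hp⟩ := hbij.2 x
  exact ⟨_, _, _, _, p.1.2, p.2.1.2, p.2.2.1.2, p.2.2.2.2, hp⟩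

/-- All permutations that can occur as involutions. -/
noncomputable def allI : List Nat := IA ++ IB.map Prod.fst

theorem inv_sweep : allBelow 4 16 (fun a => allBelow 4 14 fun b => allBelow 4 12 fun c =>
    allBelow 3 8 fun d => cond (isId fun v => el4 a b c d (el4 a b c d v))
      (cond (isId (el4 a b c d)) true (anyL (fun p => eqv (app p) (el4 a b c d)) allI)) true) =
      true := by
  decide +kernel

theorem inv_mem {x : Cz} (h2 : x * x = 1) (h1 : x ≠ 1) : ∃ p ∈ allI, Rep x (app p) := by
  obtain ⟨a, b, c, d, ha, hb, hc, hd, rfl⟩ := exists_mk4 x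
  have hr := rep_mk4 ha hb hc hd
  have h := of_allBelow (of_allBelow (of_allBelow (of_allBelow inv_sweep a ha) b hb) c hc) d hd
  rw [((hr.mul hr).isId_iff).mpr h2, cond_true] at h
  have hne : isId (el4 a b c d) = false := by
    cases hh : isId (el4 a b c d)
    · rfl
    · exact absurd (hr.isId_iff.mp hh) h1
  rw [hne, cond_false] at h
  obtain ⟨p, hp, he⟩ := anyL_iff.mp h
  refine ⟨p, hp, fun v => ?_⟩
  rw [hr v, eqv_iff.mp he v]

end CfsgLib.Coset.He.Out
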