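import Cfsg.Agent.Coset.He.Out.Step

/-!
The last step: the images of the generators of the centraliser determine the automorphism up to
an inner one.
-/

set_option autoImplicit false
set_option maxRecDepth 100000
set_option Elab.async false

namespace CfsgLib.Coset.He.Out

open CfsgLib.Coset Inv2B

section Kernel

/-- Substitute words for letters. -/
noncomputable def sub (W : List (List Nat)) (u : List Nat) : List Nat :=
  List.rec [] (fun l _ ih => W.getD l [] ++ ih) u

/-- Two words agree on the base. -/
noncomputable def eqW (v w : List Nat) : Bool :=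
  cond (checkLetters 7 [v]) (cond (checkLetters 7 [w])
    (allList (fun b => Nat.beq (follow (tget Top.Tb) b v) (follow (tget Top.Tb) b w)) [5, 6, 15, 42])
    false) false

/-- The identity, packed. -/
def idP : Nat := 0xfedcba9876543210

/-- The relators used at the last step. -/
def xRels : List (List Nat) := [[5, 5], [0, 5, 0, 5], [1, 5, 1, 5], [2, 5, 2, 5], [4, 6, 5, 6, 5]]

/-- The conjugated images, with a candidate for the image of `f`. -/
noncomputable def psX (P : List Nat) (p : Nat) : List Nat :=
  [P.getD 0 0, P.getD 1 0, P.getD 2 0, idP, gP, p, P.getD 6 0]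

/-- The six words whose images determine an automorphism. -/
def genWords : List (List Nat) := [[0], [1], [2], Cg.getD 3 [], [5], [6]]

/-- The images of the six words, given the images in the centraliser and a candidate. -/
noncomputable def srcW (I : List Nat) (h : List Nat) (k : Nat) : List (List Nat) :=
  [flatC (elW (I.getD 0 0)), flatC (elW (I.getD 1 0)), flatC (elW (I.getD 2 0)),
    flatC (elW (I.getD 3 0)), h ++ flatC (elW k) ++ h.reverse, [6]]

/-- The word `(a b c) ^ 3`. -/
def abc3 : List Nat := [0, 1, 2, 0, 1, 2, 0, 1, 2]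

/-- The images in the centraliser are the given ones, and their conjugates are as recorded. -/
noncomputable def leafData (pre I h J P : List Nat) : Bool :=
  cond (allBelow 2 4 fun j => cond (Nat.ble (Nat.add (I.getD j 0) 1) 21504)
      (eqv (elf (I.getD j 0)) (app (pre.getD j 0))) false)
    (cond (allList (fun j => cond (Nat.ble (Nat.add (J.getD j 0) 1) 21504)
        (eqv (elf (J.getD j 0)) (app (P.getD (cond (Nat.beq j 3) 6 j) 0))) false) [0, 1, 2, 3])
      (cond (allBelow 2 3 fun j => eqW (h.reverse ++ flatC (elW (I.getD j 0)) ++ h)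
          (flatC (elW (J.getD j 0))))
        (cond (eqW (h.reverse ++ sub (srcW I h 0) abc3 ++ h) [6])
          (eqW (h.reverse ++ [6] ++ h) (flatC (elW (J.getD 3 0)))) false) false) false) false

/-- Each candidate for the image of `f` gives the target, up to a conjugation. -/
noncomputable def leafX (I h P : List Nat) (X : List (Nat × Nat × List Nat))
    (tgt : List (List Nat)) : Bool :=
  allList (fun p => cond (allList (fun u => isId (fol (psX P p) u)) xRels)
    (anyL (fun c => cond (eqv (app c.1) (app p)) (cond (Nat.ble (Nat.add c.2.1 1) 21504)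
      (cond (eqv (elf c.2.1) (app c.1))
        (allBelow 3 6 fun i => eqW (c.2.2 ++ (srcW I h c.2.1).getD i [] ++ c.2.2.reverse)
          (sub tgt (genWords.getD i []))) false) false) false) X) true) allI

end Kernel

theorem eq_of_eqW {v w : List Nat} (h : eqW v w = true) : ev Lg v = ev Lg w := by
  obtain ⟨h1, h2⟩ := cond_false_eq_true.mp h
  obtain ⟨h2, h3⟩ := cond_false_eq_true.mp h2
  exact matches_ρ.ev_eq_of_base base_bot h1 h2 h3

theorem ev_sub (W : List (List Nat)) : ∀ u : List Nat, ev Lg (sub W u) = ev (W.map (ev Lg)) u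
  | [] => by simp [sub]
  | l :: u => by
    show ev Lg (W.getD l [] ++ sub W u) = _
    rw [ev_append, ev_cons, ev_sub W u, fl, ← ev_nil (L := Lg), List.getD_map]

theorem hom_ev (f : Cfsg.Spor.He →* Cfsg.Spor.He) :
    ∀ u : List Nat, f (ev Lg u) = ev (List.map f Lg) u
  | [] => by simp
  | l :: u => by
    rw [ev_cons, ev_cons, map_mul, hom_ev f u]
    congr 1
    rw [fl, fl, ← map_one f, List.getD_map, map_one]

theorem gens_e : eqW [4] abc3 = true := by decide +kernel

theorem gens_d : eqW [3] (sub [[0], [1], [2], Cg.getD 3 [], [5]] dW) = true := by decide +kernel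

/-- Two homomorphisms agreeing on the six words agree. -/
theorem ext_six {α β : Cfsg.Spor.He →* Cfsg.Spor.He}
    (h : ∀ i < 6, α (ev Lg (genWords.getD i [])) = β (ev Lg (genWords.getD i []))) :
    ∀ l < 7, α (fl Lg l) = β (fl Lg l) := by
  have one : ∀ l : Nat, fl Lg l = ev Lg [l] := fun l => by simp
  have h012 : ∀ l < 3, α (fl Lg l) = β (fl Lg l) := by
    intro l hl
    have := h l (by omega)
    interval_cases l <;> simpa [genWords] using this
  have he : α (fl Lg 4) = β (fl Lg 4) := by
    rw [one 4, eq_of_eqW gens_e]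
    simp only [abc3, ev_cons, ev_nil, map_mul, map_one, h012 0 (by decide), h012 1 (by decide),
      h012 2 (by decide)]
  have hd : α (fl Lg 3) = β (fl Lg 3) := by
    rw [one 3, eq_of_eqW gens_d, ev_sub]
    have : ∀ u : List Nat, α (ev ([[0], [1], [2], Cg.getD 3 [], [5]].map (ev Lg)) u) =
        β (ev ([[0], [1], [2], Cg.getD 3 [], [5]].map (ev Lg)) u) := by
      intro u
      induction u with
      | nil => simp
      | cons l u ih =>
        rw [ev_cons, map_mul, map_mul, ih]
        congr 1
        match l with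
        | 0 => simpa [fl, genWords] using h 0 (by decide)
        | 1 => simpa [fl, genWords] using h 1 (by decide)
        | 2 => simpa [fl, genWords] using h 2 (by decide)
        | 3 => simpa [fl, genWords] using h 3 (by decide)
        | 4 => simpa [fl, genWords] using h 4 (by decide)
        | l + 5 => simp [fl]
    exact this dW
  intro l hl
  interval_cases l
  · exact h012 0 (by decide)
  · exact h012 1 (by decide)
  · exact h012 2 (by decide)
  · exact hd
  · exact he
  · simpa [genWords] using h 4 (by decide)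
  · simpa [genWords] using h 5 (by decide)

theorem f_moves : allList (fun b => Nat.beq (tget Top.Tb b 5) b) [5, 6, 15, 42] = false := by
  decide +kernel

theorem comm_ef : eqW [4, 5] [5, 4] = true := by decide +kernel

theorem xRels_mem : ∀ u ∈ xRels, u ∈ rels := by decide +kernel

theorem xRels_letters : ∀ u ∈ xRels, ∀ l ∈ u, l < 7 ∧ l ≠ 3 := by decide

theorem idP_ok : eqv (fun v => v) (app idP) = true := by decide +kernel

/-- A node whose four images are known. -/
theorem leaf {pre I h J P : List Nat} {X : List (Nat × Nat × List Nat)} {tgt : List (List Nat)}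
    (hpre : pre.length = 4) (hdata : leafData pre I h J P = true)
    (hX : leafX I h P X tgt = true) (β : Cfsg.Spor.He →* Cfsg.Spor.He)
    (hβ : ∀ l < 7, β (fl Lg l) = ev Lg (tgt.getD l []))
    (hgood : ∀ (ψ : MulAut Cfsg.Spor.He) (x : Cfsg.Spor.He),
      (∀ l < 7, x * ψ (fl Lg l) * x⁻¹ = β (fl Lg l)) → Good ψ) : Norm pre := by
  intro ψ hψ hreps
  obtain ⟨d1, d2⟩ := cond_false_eq_true.mp hdata
  obtain ⟨d2, d3⟩ := cond_false_eq_true.mp d2
  obtain ⟨d3, d4⟩ := cond_false_eq_true.mp d3
  obtain ⟨d4, d5⟩ := cond_false_eq_true.mp d4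
  have himg : ∀ j < 4, ψ (ev Lg (Cg.getD j [])) = ev Lg (flatC (elW (I.getD j 0))) := by
    intro j hj
    obtain ⟨hk, he⟩ := cond_false_eq_true.mp (of_allBelow d1 j hj)
    have e := (hreps j (hpre ▸ hj)).ext ((rep_el (Nat.ble_eq.mp hk)).congr he)
      (eqv_iff.mpr fun _ => rfl)
    rw [← coe_fl, ← coe_res ψ hψ, e, coe_el]
  have hψ6 : ψ (fl Lg 6) = fl Lg 6 := by
    have : fl Lg 6 = Z := by simp [Z]
    rw [this, hψ]
  have h3 : ∀ j < 3, ψ (fl Lg j) = ev Lg (flatC (elW (I.getD j 0))) := by
    intro j hj
    have := himg j (by omega)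
    interval_cases j <;> simpa [Cg] using this
  let t : Cfsg.Spor.He := ev Lg h
  let τ : Cfsg.Spor.He →* Cfsg.Spor.He :=
    (MulAut.conj t⁻¹).toMonoidHom.comp ψ.toMonoidHom
  have hτ : ∀ z, τ z = t⁻¹ * ψ z * t := fun z => by simp [τ]
  have hconj : ∀ w, ev Lg (h.reverse ++ w ++ h) = t⁻¹ * ev Lg w * t := fun w => by
    rw [ev_append, ev_append, ev_reverse]
  have hτj : ∀ j < 3, τ (fl Lg j) = (el (J.getD j 0) : Cfsg.Spor.He) := by
    intro j hj
    rw [hτ, h3 j hj, ← hconj, eq_of_eqW (of_allBelow d3 j hj), coe_el]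
  have hτe : τ (fl Lg 4) = Z := by
    have e4 : fl Lg 4 = ev Lg [4] := by simp
    have hs : ψ (ev Lg abc3) = ev Lg (sub (srcW I h 0) abc3) := by
      rw [ev_sub]
      simp only [abc3, ev_cons, ev_nil, map_mul, map_one, h3 0 (by decide), h3 1 (by decide),
        h3 2 (by decide)]
      simp [srcW, fl]
    rw [hτ, e4, eq_of_eqW gens_e, hs, ← hconj, eq_of_eqW d4]
  have hτg : τ (fl Lg 6) = (el (J.getD 3 0) : Cfsg.Spor.He) := by
    have e6 : fl Lg 6 = ev Lg [6] := by simp
    rw [hτ, hψ6, e6, ← hconj, eq_of_eqW d5, coe_el]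
  have hx : τ (fl Lg 5) ∈ Cz := by
    rw [Subgroup.mem_centralizer_singleton_iff, ← hτe, ← map_mul, ← map_mul]
    have := eq_of_eqW comm_ef
    simp only [ev_cons, ev_nil, mul_one] at this
    rw [this]
  let x : Cz := ⟨_, hx⟩
  let L7 : List Cz := [el (J.getD 0 0), el (J.getD 1 0), el (J.getD 2 0), 1, Zc, x, el (J.getD 3 0)]
  have hco : ∀ u : List Nat, (∀ l ∈ u, l < 7 ∧ l ≠ 3) →
      ((ev L7 u : Cz) : Cfsg.Spor.He) = τ (ev Lg u) := by
    intro u
    induction u with
    | nil => simp
    | cons l u ih =>
      intro hu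
      obtain ⟨hl, hl3⟩ := hu l (by simp)
      rw [ev_cons, ev_cons, map_mul, Subgroup.coe_mul, ih fun z hz => hu z (by simp [hz])]
      congr 1
      interval_cases l
      · exact (hτj 0 (by decide)).symm
      · exact (hτj 1 (by decide)).symm
      · exact (hτj 2 (by decide)).symm
      · exact absurd rfl hl3
      · exact hτe.symm
      · rfl
      · exact hτg.symm
  have hxsq : x * x = 1 := by
    have := hco [5, 5] (by decide)
    rw [ev_rels [5, 5] (xRels_mem _ (by simp [xRels])), map_one] at this
    simp only [ev_cons, ev_nil, mul_one] at this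
    exact Subtype.ext this
  have hxne : x ≠ 1 := by
    intro e
    have e' : τ (fl Lg 5) = 1 := congrArg Subtype.val e
    rw [hτ] at e'
    have h5 : ψ (fl Lg 5) = 1 := by
      calc ψ (fl Lg 5) = t * (t⁻¹ * ψ (fl Lg 5) * t) * t⁻¹ := by group
        _ = 1 := by rw [e']; group
    have h6 : fl Lg 5 = 1 := (map_eq_one_iff ψ ψ.injective).mp h5
    have : allList (fun b => Nat.beq (tget Top.Tb b 5) b) [5, 6, 15, 42] = true := by
      refine allList_iff.mpr fun b hb => ?_
      have hb' : b < 2058 := by
        simp only [List.mem_cons, List.not_mem_nil, or_false] at hb; omega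
      have := (matches_ρ.fix_iff (w := [5]) (by decide +kernel) (i := ⟨b, hb'⟩)).mp (by
        rw [ev_cons, ev_nil, mul_one, h6, map_one]; rfl)
      rw [show tget Top.Tb b 5 = b from this]
      exact Nat.beq_refl b
    rw [f_moves] at this
    exact Bool.false_ne_true this
  obtain ⟨p, hp, hr⟩ := inv_mem hxsq hxne
  have hJ : ∀ j ∈ [0, 1, 2, 3], Rep (el (J.getD j 0)) (app (P.getD (cond (Nat.beq j 3) 6 j) 0)) := by
    intro j hj
    obtain ⟨a, b⟩ := cond_false_eq_true.mp (allList_iff.mp d2 j hj)
    exact (rep_el (Nat.ble_eq.mp a)).congr b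
  have h7 : ∀ l < L7.length, Rep (fl L7 l) (app ((psX P p).getD l 0)) := by
    intro l hl
    have hl' : l < 7 := hl
    interval_cases l
    · exact hJ 0 (by simp)
    · exact hJ 1 (by simp)
    · exact hJ 2 (by simp)
    · exact Rep.one.congr idP_ok
    · exact rep_Zc
    · exact hr
    · exact hJ 3 (by simp)
  have ht : allList (fun u => isId (fol (psX P p) u)) xRels = true := by
    refine allList_iff.mpr fun u hu => ?_
    have hl := xRels_letters u hu
    refine ((Rep.ev_fol h7 u fun l h => (hl l h).1).isId_iff).mpr (Subtype.ext ?_)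
    rw [hco u hl, ev_rels u (xRels_mem u hu), map_one]
    rfl
  have hs := allList_iff.mp hX p hp
  rw [ht, cond_true] at hs
  obtain ⟨c, -, hc⟩ := anyL_iff.mp hs
  obtain ⟨c1, c2⟩ := cond_false_eq_true.mp hc
  obtain ⟨c2, c3⟩ := cond_false_eq_true.mp c2
  obtain ⟨c3, c4⟩ := cond_false_eq_true.mp c3
  have hxe : x = el c.2.1 :=
    hr.ext (((rep_el (Nat.ble_eq.mp c2)).congr c3).congr c1) (eqv_iff.mpr fun _ => rfl)
  have hf : ψ (fl Lg 5) = ev Lg (h ++ flatC (elW c.2.1) ++ h.reverse) := by
    rw [ev_append, ev_append, ev_reverse, ← coe_el, ← hxe]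
    show ψ (fl Lg 5) = t * τ (fl Lg 5) * t⁻¹
    rw [hτ]; group
  refine hgood ψ (ev Lg c.2.2) ?_
  refine fun l hl => ext_six (α := (MulAut.conj (ev Lg c.2.2)).toMonoidHom.comp ψ.toMonoidHom)
    (β := β) (fun i hi => ?_) l hl
  show ev Lg c.2.2 * ψ (ev Lg (genWords.getD i [])) * (ev Lg c.2.2)⁻¹ = _
  have hsrc : ψ (ev Lg (genWords.getD i [])) = ev Lg ((srcW I h c.2.1).getD i []) := by
    interval_cases i
    · simpa [genWords, srcW] using h3 0 (by decide)
    · simpa [genWords, srcW] using h3 1 (by decide)
    · simpa [genWords, srcW] using h3 2 (by decide)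
    · simpa [genWords, srcW] using himg 3 (by decide)
    · simpa [genWords, srcW] using hf
    · simpa [genWords, srcW] using hψ6
  have hb : β (ev Lg (genWords.getD i [])) = ev Lg (sub tgt (genWords.getD i [])) := by
    rw [ev_sub]
    have hl : ∀ l ∈ genWords.getD i [], l < 7 := by
      have : allBelow 3 6 (fun i => checkLetters 7 [genWords.getD i []]) = true := by decide +kernel
      exact letters_lt (of_allBelow this i hi) _ (List.mem_singleton_self _)
    generalize genWords.getD i [] = u at hl ⊢
    induction u with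
    | nil => simp
    | cons l u ih =>
      rw [ev_cons, ev_cons, map_mul, ih fun z hz => hl z (by simp [hz]), hβ l (hl l (by simp))]
      congr 1
      rw [fl, ← ev_nil (L := Lg), List.getD_map]
  rw [hsrc, hb, ← ev_reverse, ← ev_append, ← ev_append]
  exact eq_of_eqW (of_allBelow c4 i hi)

end CfsgLib.Coset.He.Out
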