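import Cfsg.Agent.Coset.He.Out.Tree
import Cfsg.Prelude.Def_KGroupFacts

/-! The outer automorphism group of `Cfsg.Spor.He`. -/

set_option autoImplicit false
set_option maxRecDepth 100000
set_option Elab.async false

namespace CfsgLib.Coset.He.Out

open CfsgLib.Coset Inv2B

/-- The images of the generators. -/
noncomputable def img : List Cfsg.Spor.He := imgW.map (ev Lg)

theorem img_check : allList (fun w => eqW (sub imgW w) []) rels = true := by decide +kernel

theorem img_rels : ∀ w ∈ pres.rels, ev img w = 1 := by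
  rw [rels_eq]
  intro w hw
  rw [img, ← ev_sub, eq_of_eqW (allList_iff.mp img_check w hw), ev_nil]

/-- The outer automorphism, as a homomorphism. -/
noncomputable def twist : Cfsg.Spor.He →* Cfsg.Spor.He := pres.hom pres_ok img_rels

theorem twist_fl {l : Nat} (hl : l < 7) : twist (fl Lg l) = ev Lg (imgW.getD l []) := by
  obtain ⟨x, rfl⟩ := hix l hl
  show pres.hom pres_ok img_rels (fl pres.gens (pres.ix x)) = _
  rw [pres.hom_fl pres_ok]
  have hl' : pres.ix x < img.length := by rw [img, List.length_map]; exact hl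
  rw [fl, List.getD_eq_getElem _ _ hl', List.getD_eq_getElem _ _ (show ix x < imgW.length from hl)]
  simp [img]

theorem twist_bijective : Function.Bijective twist := by
  have := card_le.1
  have := isSimple
  have hinj : Function.Injective twist := by
    rcases isSimple.eq_bot_or_eq_top_of_normal twist.ker inferInstance with h | h
    · exact (MonoidHom.ker_eq_bot_iff twist).mp h
    · exfalso
      have h0 : twist (fl Lg 6) = 1 := MonoidHom.mem_ker.mp (h ▸ Subgroup.mem_top _)
      rw [twist_fl (by decide), show imgW.getD 6 [] = [6] from rfl] at h0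
      have h2 := orderOf_Z
      rw [show Z = 1 from h0, orderOf_one] at h2
      exact absurd h2 (by norm_num)
  exact ⟨hinj, Finite.surjective_of_injective hinj⟩

/-- The outer automorphism. -/
noncomputable def outer : MulAut Cfsg.Spor.He := MulEquiv.ofBijective twist twist_bijective

theorem good_all (φ : MulAut Cfsg.Spor.He) : Good φ := by
  obtain ⟨x, hx⟩ := exists_fix_Z φ
  refine Good.of_conj (y := x) ?_
  have h1 : Norm pre1 := leaf (I := lI1) (h := lh1) (J := lJ1) (P := lP1) (X := lX1)
    (tgt := [[0], [1], [2], [3], [4], [5], [6]]) rfl (by decide +kernel) (by decide +kernel)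
    (MonoidHom.id _) (fun l hl => by interval_cases l <;> simp)
    (fun ψ x h => ⟨x, Or.inl fun l hl => h l hl⟩)
  have h2 : Norm pre2 := leaf (I := lI2) (h := lh2) (J := lJ2) (P := lP2) (X := lX2)
    (tgt := imgW) rfl (by decide +kernel) (by decide +kernel)
    twist (fun l hl => twist_fl hl)
    (fun ψ x h => ⟨x, Or.inr fun l hl => (h l hl).trans (twist_fl hl)⟩)
  refine n0 h1 h2 (MulAut.conj x * φ) (by rw [MulAut.mul_apply, MulAut.conj_apply]; exact hx) ?_
  intro j hj
  simp [P0] at hj

theorem ext_gens {α β : MulAut Cfsg.Spor.He} (h : ∀ l < 7, α (fl Lg l) = β (fl Lg l)) : α = β := by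
  refine MulEquiv.ext fun x => ?_
  have hx : x ∈ Subgroup.closure {y | y ∈ Lg} := closure_Lg ▸ Subgroup.mem_top x
  induction hx using Subgroup.closure_induction with
  | mem y hy =>
    obtain ⟨l, hl, rfl⟩ := List.getElem_of_mem hy
    have hl7 : l < 7 := hl
    have := h l hl7
    rwa [fl, List.getD_eq_getElem _ _ hl] at this
  | one => simp
  | mul a b _ _ ha hb => rw [map_mul, map_mul, ha, hb]
  | inv a _ ha => rw [map_inv, map_inv, ha]

theorem two_classes (φ : MulAut Cfsg.Spor.He) :
    φ ∈ Cfsg.Inn Cfsg.Spor.He ∨ φ * outer⁻¹ ∈ Cfsg.Inn Cfsg.Spor.He := by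
  obtain ⟨x, h | h⟩ := good_all φ
  · left
    have e : MulAut.conj x * φ = 1 := ext_gens h
    exact ⟨x⁻¹, by rw [map_inv]; exact inv_eq_of_mul_eq_one_right e⟩
  · right
    have e : MulAut.conj x * φ = outer :=
      ext_gens fun l hl => (h l hl).trans (twist_fl hl).symm
    refine ⟨x⁻¹, ?_⟩
    rw [← e, map_inv]
    simp [mul_inv_rev]

theorem no_inner_sweep : allBelow 4 16 (fun a => allBelow 4 14 fun b => allBelow 4 12 fun c =>
    allBelow 3 8 fun d =>
    cond (eqv (fun v => el4 a b c d (app (stdP.getD 0 0) v))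
      (fun v => app (stdP.getD 0 0) (el4 a b c d v)))
      (cond (eqv (fun v => el4 a b c d (app (stdP.getD 1 0) v))
        (fun v => app (stdP.getD 1 0) (el4 a b c d v)))
        (cond (eqv (fun v => app (stdP.getD 2 0) (el4 a b c d v))
          (fun v => el4 a b c d (app (pre2.getD 2 0) v))) false true) true) true) = true := by
  decide +kernel

theorem tau_c : eqW (sub imgW [2]) (flatC (elW (lI2.getD 2 0))) = true := by decide +kernel

theorem rep_tau_c : Rep (el (lI2.getD 2 0)) (app (pre2.getD 2 0)) :=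
  (rep_el (by decide)).congr (by decide +kernel)

theorem outer_not_inner : outer ∉ Cfsg.Inn Cfsg.Spor.He := by
  rintro ⟨x, hx⟩
  have hx' : ∀ y, x * y * x⁻¹ = twist y := fun y => DFunLike.congr_fun hx y
  have hxC : x ∈ Cz := by
    rw [Subgroup.mem_centralizer_singleton_iff]
    have h6 := hx' (fl Lg 6)
    rw [twist_fl (by decide), show imgW.getD 6 [] = [6] from rfl] at h6
    have hz : fl Lg 6 = Z := by simp [Z]
    rw [hz, mul_inv_eq_iff_eq_mul] at h6
    exact h6
  let y : Cz := ⟨x, hxC⟩
  have cfl : ∀ l < 3, ((fl Lc l : Cz) : Cfsg.Spor.He) = fl Lg l := by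
    intro l hl
    rw [coe_fl]
    interval_cases l <;> simp [Cg]
  have h01 : ∀ l < 2, y * fl Lc l = fl Lc l * y := by
    intro l hl
    refine Subtype.ext ?_
    rw [Subgroup.coe_mul, Subgroup.coe_mul, cfl l (by omega)]
    have := hx' (fl Lg l)
    rw [twist_fl (by omega), mul_inv_eq_iff_eq_mul] at this
    show x * fl Lg l = fl Lg l * x
    rw [this]
    interval_cases l <;> simp [imgW]
  have h2 : y * fl Lc 2 = el (lI2.getD 2 0) * y := by
    refine Subtype.ext ?_
    rw [Subgroup.coe_mul, Subgroup.coe_mul, cfl 2 (by decide), coe_el]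
    have := hx' (fl Lg 2)
    rw [twist_fl (by decide), mul_inv_eq_iff_eq_mul] at this
    show x * fl Lg 2 = _
    rw [this, ← eq_of_eqW tau_c]
    simp [sub, y]
  obtain ⟨a, b, c, d, ha, hb, hc, hd, he⟩ := exists_mk4 y
  have hy : Rep y (el4 a b c d) := he ▸ rep_mk4 ha hb hc hd
  have hs := of_allBelow (of_allBelow (of_allBelow (of_allBelow no_inner_sweep a ha) b hb) c hc) d hd
  have r : ∀ l < 2, eqv (fun v => el4 a b c d (app (stdP.getD l 0) v))
      (fun v => app (stdP.getD l 0) (el4 a b c d v)) = true := by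
    intro l hl
    exact eqv_iff.mpr fun v => ((Rep.mul (rep_std (show l < 4 by omega)) hy) v).symm.trans
      ((congrArg (fun z => (sg z v : Nat)) (h01 l hl).symm).trans
        ((hy.mul (rep_std (show l < 4 by omega))) v))
  have r2 : eqv (fun v => app (stdP.getD 2 0) (el4 a b c d v))
      (fun v => el4 a b c d (app (pre2.getD 2 0) v)) = true :=
    eqv_iff.mpr fun v => ((hy.mul (rep_std (show 2 < 4 by decide))) v).symm.trans
      ((congrArg (fun z => (sg z v : Nat)) h2).trans ((rep_tau_c.mul hy) v))
  rw [r 0 (by decide), cond_true, r 1 (by decide), cond_true, r2, cond_true] at hs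
  exact Bool.false_ne_true hs

theorem card_out : Nat.card (Cfsg.Out Cfsg.Spor.He) = 2 := by
  show (Cfsg.Inn Cfsg.Spor.He).index = 2
  rw [Subgroup.index_eq_two_iff]
  refine ⟨outer, fun b => ?_⟩
  by_cases hb : b ∈ Cfsg.Inn Cfsg.Spor.He
  · exact Or.inr ⟨hb, fun h => outer_not_inner (by simpa using mul_mem (InvMemClass.inv_mem hb) h)⟩
  · refine Or.inl ⟨?_, hb⟩
    rcases two_classes (b * outer) with h | h
    · exact h
    · exact absurd (by simpa using h) hb

end CfsgLib.Coset.He.Out
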