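import Cfsg.Agent.Coset.He.Out.Basic
import Mathlib.GroupTheory.Sylow

/-!
Every automorphism fixes `g` after composition with an inner one: `g` generates the centre of a
Sylow 2-subgroup.
-/

set_option autoImplicit false
set_option maxRecDepth 100000
set_option Elab.async false

namespace CfsgLib.Coset.He.Out

open CfsgLib.Coset Inv2B
open scoped Pointwise

/-- `g`, in its centraliser. -/
noncomputable def Zc : Cz := ⟨Z, Subgroup.mem_centralizer_singleton_iff.mpr rfl⟩

theorem gI_word : allList (fun b => Nat.beq (follow (tget Top.Tb) b [6])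
    (follow (tget Top.Tb) b (flatC (elW gI)))) [5, 6, 15, 42] = true := by decide +kernel

theorem gI_rep : eqv (elf gI) (app gP) = true := by decide +kernel

theorem Zc_eq : Zc = el gI := by
  refine Subtype.ext ?_
  rw [coe_el]
  exact matches_ρ.ev_eq_of_base base_bot (by decide +kernel) (flatC_letters _) gI_word

theorem rep_Zc : Rep Zc (app gP) := by
  rw [Zc_eq]; exact (rep_el (show gI < 21504 by decide)).congr gI_rep

theorem Zc_comm (x : Cz) : Zc * x = x * Zc :=
  Subtype.ext (Subgroup.mem_centralizer_singleton_iff.mp x.2).symm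

/-- Generators of a 2-subgroup of the centraliser. -/
noncomputable def RLc : List Cz := RS.map (ev Lc)

theorem RS_ok : allBelow 2 3 (fun l => cond (checkLetters 4 [RS.getD l []])
    (eqv (fun v => follow (tget Tb16) v (RS.getD l [])) (app (RSP.getD l 0))) false) = true := by
  decide +kernel

theorem rep_RLc : ∀ l < RLc.length, Rep (fl RLc l) (app (RSP.getD l 0)) := by
  intro l hl
  have hl' : l < RS.length := by simpa [RLc] using hl
  have h := cond_false_eq_true.mp (of_allBelow RS_ok l hl')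
  intro v
  rw [fl, List.getD_eq_getElem _ _ hl, ← eqv_iff.mp h.2 v]
  simp only [RLc, List.getElem_map]
  rw [← List.getD_eq_getElem RS [] hl']
  exact sg_ev _ (letters_lt h.1 _ (List.mem_singleton_self _)) v

theorem RL_closed : allList (fun p => allList (fun s =>
    anyL (fun q => eqv (app q) (fun v => app s (app p v))) RL) RSP) RL = true := by decide +kernel

theorem RL_pow : allList (fun p => isId (fol [p] (List.replicate 64 0))) RL = true := by
  decide +kernel

/-- The 2-subgroup. -/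
noncomputable def Rc : Subgroup Cz := Subgroup.closure {x | x ∈ RLc}

theorem rep_Rc {x : Cz} (hx : x ∈ Rc) : ∃ p ∈ RL, Rep x (app p) := by
  have := card_le.1
  have key : ∀ y ∈ Submonoid.closure {x | x ∈ RLc}, ∃ p ∈ RL, Rep y (app p) := by
    intro y hy
    induction hy using Submonoid.closure_induction_right with
    | one =>
      refine ⟨RL.getD 0 0, ?_, Rep.one.congr (by decide +kernel)⟩
      rw [List.getD_eq_getElem _ _ (by decide)]
      exact List.getElem_mem _
    | mul_right y _ s hs ih =>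
      obtain ⟨p, hp, hr⟩ := ih
      obtain ⟨l, hl, rfl⟩ := List.getElem_of_mem (show s ∈ RLc from hs)
      have hl' : l < RSP.length := by simpa [RLc, RS, RSP] using hl
      have hr2 := rep_RLc l hl
      rw [fl, List.getD_eq_getElem _ _ hl] at hr2
      have hs' : RSP.getD l 0 ∈ RSP := by
        rw [List.getD_eq_getElem _ _ hl']; exact List.getElem_mem _
      obtain ⟨q, hq, he⟩ := anyL_iff.mp (allList_iff.mp (allList_iff.mp RL_closed p hp) _ hs')
      refine ⟨q, hq, fun v => ?_⟩
      rw [(hr.mul hr2) v, eqv_iff.mp he v]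
  refine key x ?_
  rw [Rc, ← Subgroup.mem_toSubmonoid, Subgroup.closure_toSubmonoid_of_finite] at hx
  exact hx

theorem isPGroup_Rc : IsPGroup 2 Rc := fun x => by
  refine ⟨6, Subtype.ext ?_⟩
  obtain ⟨p, hp, hr⟩ := rep_Rc x.2
  have h := allList_iff.mp RL_pow p hp
  have hr' := Rep.ev_fol (L := [(x : Cz)]) (ps := [p]) (fun l hl => by
    obtain rfl : l = 0 := by simpa using hl
    exact hr) (List.replicate 64 0) (fun l hl => by simp [List.eq_of_mem_replicate hl])
  have e := hr'.isId_iff.mp h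
  have e2 : ∀ m : Nat, ev [(x : Cz)] (List.replicate m 0) = (x : Cz) ^ m := by
    intro m
    induction m with
    | zero => simp
    | succ m ih => rw [List.replicate_succ, ev_cons, ih, pow_succ']; rfl
  rw [e2] at e
  simpa using e

theorem RT_ok : allBelow 4 16 (fun v => cond (checkLetters 3 [RT.getD v []])
    (Nat.beq (fol RSP (RT.getD v []) 0) v) false) = true := by decide +kernel

theorem RF_ok : allBelow 4 16 (fun v => cond (checkLetters 3 [RF.getD v []])
    (cond (Nat.beq (fol RSP (RF.getD v []) 0) 0)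
      (cond (Nat.beq v 0) true (cond (Nat.beq v (app gP 0)) true
        (cond (Nat.beq (fol RSP (RF.getD v []) v) v) false true))) false) false) = true := by
  decide +kernel

theorem ev_RLc_mem (u : List Nat) : ev RLc u ∈ Rc := by
  induction u with
  | nil => exact one_mem _
  | cons k u ih => rw [ev_cons]; exact mul_mem (mem_closure_fl k) ih

theorem eq_of_commute_Rc {z : Cz} (hz : ∀ r ∈ Rc, z * r = r * z) : z = 1 ∨ z = Zc := by
  have hsg : ∀ u : List Nat, (∀ l ∈ u, l < RLc.length) → ∀ v : Fin 16,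
      (sg (ev RLc u) v : Nat) = fol RSP u v := fun u hu v => Rep.ev_fol rep_RLc u hu v
  have hlen : RLc.length = 3 := by simp [RLc, RS]
  -- an element commuting with the subgroup and fixing `0` is trivial
  have h0 : ∀ y : Cz, (∀ r ∈ Rc, y * r = r * y) → sg y 0 = 0 → y = 1 := by
    intro y hy h0
    refine sg_ext fun v => ?_
    rw [sg_one]
    have h := cond_false_eq_true.mp (of_allBelow RT_ok v v.2)
    have hr : sg (ev RLc (RT.getD v [])) 0 = v := Fin.ext (by
      rw [hsg _ (fun l hl => hlen ▸ letters_lt h.1 _ (List.mem_singleton_self _) l hl) 0]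
      exact Nat.eq_of_beq_eq_true h.2)
    calc sg y v = sg y (sg (ev RLc (RT.getD v [])) 0) := by rw [hr]
      _ = sg (ev RLc (RT.getD v [])) (sg y 0) := by
          rw [← sg_mul, ← hy _ (ev_RLc_mem _), sg_mul]
      _ = v := by rw [h0, hr]
  have hZ : (sg Zc 0 : Nat) = app gP 0 := rep_Zc 0
  have hz0 : (sg z 0 : Nat) = 0 ∨ (sg z 0 : Nat) = app gP 0 := by
    set w := sg z 0 with hw
    have h := cond_false_eq_true.mp (of_allBelow RF_ok w w.2)
    have h' := cond_false_eq_true.mp h.2
    have hl : ∀ l ∈ RF.getD w [], l < RLc.length :=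
      fun l hl => hlen ▸ letters_lt h.1 _ (List.mem_singleton_self _) l hl
    have hr0 : sg (ev RLc (RF.getD w [])) 0 = 0 := Fin.ext (by
      rw [hsg _ hl 0]; exact Nat.eq_of_beq_eq_true h'.1)
    have hrw : sg (ev RLc (RF.getD w [])) w = w := by
      rw [hw, ← sg_mul, hz _ (ev_RLc_mem _), sg_mul, hr0]
    have hrw' := congrArg Fin.val hrw
    rw [hsg _ hl] at hrw'
    by_cases c1 : (w : Nat) = 0
    · exact Or.inl c1
    by_cases c2 : (w : Nat) = app gP 0
    · exact Or.inr c2
    exfalso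
    have b1 : Nat.beq (w : Nat) 0 = false := by
      cases hh : Nat.beq (w : Nat) 0
      · rfl
      · exact absurd (Nat.eq_of_beq_eq_true hh) c1
    have b2 : Nat.beq (w : Nat) (app gP 0) = false := by
      cases hh : Nat.beq (w : Nat) (app gP 0)
      · rfl
      · exact absurd (Nat.eq_of_beq_eq_true hh) c2
    have h2 := h'.2
    rw [b1, b2, cond_false, cond_false, hrw', Nat.beq_refl, cond_true] at h2
    exact Bool.false_ne_true h2
  rcases hz0 with h | h
  · exact Or.inl (h0 z hz (Fin.ext h))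
  · right
    have hy : ∀ r ∈ Rc, Zc⁻¹ * z * r = r * (Zc⁻¹ * z) := by
      intro r hr
      have hc : Commute Zc⁻¹ r := (show Commute Zc r from Zc_comm r).inv_left
      calc Zc⁻¹ * z * r = Zc⁻¹ * r * z := by rw [mul_assoc, hz r hr, ← mul_assoc]
        _ = r * (Zc⁻¹ * z) := by rw [hc.eq, mul_assoc]
    have hy0 : sg (Zc⁻¹ * z) 0 = 0 := by
      have hzc : Zc⁻¹ * z = z * Zc⁻¹ :=
        ((show Commute Zc z from Zc_comm z).inv_left).eq
      rw [hzc, sg_mul]
      have he : sg z 0 = sg Zc 0 := Fin.ext (h.trans hZ.symm)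
      rw [he, ← sg_mul, mul_inv_cancel, sg_one]
    have := h0 _ hy hy0
    exact (inv_mul_eq_one.mp this).symm

theorem gen_mem : ∀ l : Nat, l = 2 → fl RLc l = Zc := by
  rintro _ rfl
  exact (rep_RLc 2 (by simp [RLc, RS])).ext rep_Zc (by decide +kernel)

/-- Every automorphism is inner times one fixing `g`. -/
theorem exists_fix_Z (φ : MulAut Cfsg.Spor.He) :
    ∃ x : Cfsg.Spor.He, x * φ Z * x⁻¹ = Z := by
  have := card_le.1
  have hp : Fact (Nat.Prime 2) := ⟨Nat.prime_two⟩
  set R : Subgroup Cfsg.Spor.He := Rc.map Cz.subtype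
  have hR : IsPGroup 2 R := isPGroup_Rc.map _
  obtain ⟨S, hS⟩ := hR.exists_le_sylow
  have hne : (S : Subgroup Cfsg.Spor.He) ≠ ⊥ := by
    intro h
    have hZR : Z ∈ R := ⟨Zc, by
      rw [← gen_mem 2 rfl]; exact mem_closure_fl 2, rfl⟩
    have := hS hZR
    rw [h, Subgroup.mem_bot] at this
    have ho := orderOf_Z
    rw [this, orderOf_one] at ho
    exact absurd ho (by norm_num)
  have hZS : Z ∈ (S : Subgroup Cfsg.Spor.He) :=
    hS ⟨Zc, by rw [← gen_mem 2 rfl]; exact mem_closure_fl 2, rfl⟩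
  have cen : ∀ c ∈ (S : Subgroup Cfsg.Spor.He), (∀ s ∈ (S : Subgroup Cfsg.Spor.He), c * s = s * c) →
      c = 1 ∨ c = Z := by
    intro c _ hc
    have hcz : c ∈ Cz := Subgroup.mem_centralizer_singleton_iff.mpr (hc Z hZS)
    rcases eq_of_commute_Rc (z := ⟨c, hcz⟩) (fun r hr => Subtype.ext (hc r (hS ⟨r, hr, rfl⟩)))
      with h | h
    · exact Or.inl (congrArg Subtype.val h)
    · exact Or.inr (congrArg Subtype.val h)
  have hnt : Nontrivial (S : Subgroup Cfsg.Spor.He) :=
    (Subgroup.nontrivial_iff_ne_bot _).mpr hne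
  have hcn : Nontrivial (Subgroup.center (S : Subgroup Cfsg.Spor.He)) := S.isPGroup'.center_nontrivial
  obtain ⟨⟨⟨c, hcS⟩, hcc⟩, hc1⟩ := exists_ne (1 : Subgroup.center (S : Subgroup Cfsg.Spor.He))
  have hcc' : ∀ s ∈ (S : Subgroup Cfsg.Spor.He), c * s = s * c := fun s hs =>
    congrArg Subtype.val (Subgroup.mem_center_iff.mp hcc ⟨s, hs⟩).symm
  have hcne : c ≠ 1 := fun h => hc1 (Subtype.ext (Subtype.ext h))
  obtain rfl : c = Z := (cen c hcS hcc').resolve_left hcne
  obtain ⟨x, hx⟩ := MulAction.exists_smul_eq Cfsg.Spor.He (φ • S) S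
  refine ⟨x, ?_⟩
  have hmem : ∀ s ∈ (S : Subgroup Cfsg.Spor.He), ∃ t ∈ (S : Subgroup Cfsg.Spor.He),
      x * φ t * x⁻¹ = s := by
    intro s hs
    rw [← hx, Sylow.coe_subgroup_smul, Sylow.pointwise_smul_def] at hs
    obtain ⟨u, ⟨t, ht, rfl⟩, rfl⟩ := hs
    exact ⟨t, ht, rfl⟩
  have hin : x * φ Z * x⁻¹ ∈ (S : Subgroup Cfsg.Spor.He) := by
    rw [← hx, Sylow.coe_subgroup_smul, Sylow.pointwise_smul_def]
    exact ⟨φ Z, ⟨Z, hcS, rfl⟩, rfl⟩
  refine (cen _ hin fun s hs => ?_).resolve_left ?_
  · obtain ⟨t, ht, rfl⟩ := hmem s hs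
    have h2 : φ Z * φ t = φ t * φ Z := by rw [← map_mul, hcc' t ht, map_mul]
    calc x * φ Z * x⁻¹ * (x * φ t * x⁻¹) = x * (φ Z * φ t) * x⁻¹ := by group
      _ = x * φ t * x⁻¹ * (x * φ Z * x⁻¹) := by rw [h2]; group
  · intro h
    have h1 : φ Z = 1 := by
      calc φ Z = x⁻¹ * (x * φ Z * x⁻¹) * x := by group
        _ = 1 := by rw [h]; group
    exact hcne ((map_eq_one_iff φ φ.injective).mp h1)

end CfsgLib.Coset.He.Out
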