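import Cfsg.Agent.Coset.He.Out.Norm

/-!
One step in normalising the images of the generators of the centraliser under an automorphism
fixing `g`.
-/

set_option autoImplicit false
set_option maxRecDepth 100000
set_option Elab.async false

namespace CfsgLib.Coset.He.Out

open CfsgLib.Coset Inv2B

section Kernel

/-- A conjugator fixes the earlier images and carries `p` to `r`. -/
noncomputable def conjOK (pre : List Nat) (p r k : Nat) : Bool :=
  cond (Nat.ble (Nat.add k 1) 21504)
    (cond (allList (fun q => eqv (fun v => elf k (app q v)) (fun v => app q (elf k v))) pre)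
      (eqv (fun v => elf k (app p v)) (fun v => app r (elf k v))) false) false

/-- Every candidate meeting the conditions is conjugate to a representative. -/
noncomputable def stepOK (pre cands : List Nat) (ts : List (List Nat × Bool))
    (certs : List (Nat × Nat × Nat)) (R : List Nat) : Bool :=
  allList (fun p => cond (testsOK (pre ++ [p]) ts)
    (anyL (fun c => cond (eqv (app c.1) (app p))
      (cond (Nat.ble (Nat.add c.2.1 1) R.length) (conjOK pre p (R.getD c.2.1 0) c.2.2) false) false)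
      certs) true) cands

/-- The conditions hold for the generators. -/
noncomputable def stdOK (j : Nat) (ts : List (List Nat × Bool)) : Bool :=
  cond (checkLetters (Nat.add j 1) (ts.map Prod.fst)) (testsOK stdP ts) false

/-- The candidates for the image of a generator. -/
noncomputable def candsAt (j : Nat) : List Nat := cond (Nat.ble (Nat.add j 1) 3) IA allI

end Kernel

theorem comm_Z_image {ψ : MulAut Cfsg.Spor.He} (h : ψ Z = Z) (x : Cz) :
    ψ (x : Cfsg.Spor.He) ∈ Cz := by
  rw [Subgroup.mem_centralizer_singleton_iff]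
  calc ψ (x : Cfsg.Spor.He) * Z = ψ (x : Cfsg.Spor.He) * ψ Z := by rw [h]
    _ = ψ ((x : Cfsg.Spor.He) * Z) := (map_mul ψ _ _).symm
    _ = ψ (Z * (x : Cfsg.Spor.He)) := by rw [Subgroup.mem_centralizer_singleton_iff.mp x.2]
    _ = Z * ψ (x : Cfsg.Spor.He) := by rw [map_mul, h]

/-- The restriction to the centraliser. -/
noncomputable def res (ψ : MulAut Cfsg.Spor.He) (h : ψ Z = Z) : Cz →* Cz :=
  MonoidHom.mk' (fun x => ⟨ψ (x : Cfsg.Spor.He), comm_Z_image h x⟩) fun x y =>
    Subtype.ext (map_mul ψ (x : Cfsg.Spor.He) (y : Cfsg.Spor.He))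

theorem coe_res (ψ : MulAut Cfsg.Spor.He) (h : ψ Z = Z) (x : Cz) :
    ((res ψ h x : Cz) : Cfsg.Spor.He) = ψ (x : Cfsg.Spor.He) := rfl

theorem res_injective (ψ : MulAut Cfsg.Spor.He) (h : ψ Z = Z) : Function.Injective (res ψ h) :=
  fun _ _ e => Subtype.ext (ψ.injective (congrArg Subtype.val e))

/-- Inner, or inner times the outer automorphism, on generators. -/
def Good (ψ : MulAut Cfsg.Spor.He) : Prop :=
  ∃ x : Cfsg.Spor.He, (∀ l < 7, x * ψ (fl Lg l) * x⁻¹ = fl Lg l) ∨
    ∀ l < 7, x * ψ (fl Lg l) * x⁻¹ = ev Lg (imgW.getD l [])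

theorem Good.of_conj {ψ : MulAut Cfsg.Spor.He} {y : Cfsg.Spor.He}
    (h : Good (MulAut.conj y * ψ)) : Good ψ := by
  obtain ⟨x, hx⟩ := h
  have e : ∀ z, x * y * ψ z * (x * y)⁻¹ = x * (MulAut.conj y * ψ) z * x⁻¹ := fun z => by
    simp only [MulAut.mul_apply, MulAut.conj_apply]; group
  exact ⟨x * y, hx.imp (fun h l hl => (e _).trans (h l hl)) (fun h l hl => (e _).trans (h l hl))⟩

/-- Automorphisms with the prescribed first images are good. -/
def Norm (pre : List Nat) : Prop :=
  ∀ (ψ : MulAut Cfsg.Spor.He) (h : ψ Z = Z),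
    (∀ j < pre.length, Rep (res ψ h (fl Lc j)) (app (pre.getD j 0))) → Good ψ

theorem std_ok : allBelow 3 4 (fun l =>
    eqv (fun v => follow (tget Tb16) v [l]) (app (stdP.getD l 0))) = true := by decide +kernel

theorem rep_std {l : Nat} (hl : l < 4) : Rep (fl Lc l) (app (stdP.getD l 0)) := by
  intro v
  rw [← eqv_iff.mp (of_allBelow std_ok l hl) v]
  have := sg_ev [l] (fun x hx => by rw [List.mem_singleton.mp hx, len_Lc]; exact hl) v
  rwa [ev_cons, ev_nil, mul_one] at this

theorem fix_counts : allBelow 2 3 (fun l => cond (Nat.beq (fixA.getD l []).length 43)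
    (allBelow 6 43 fun i => cond (Nat.ble (Nat.add ((fixA.getD l []).getD i 0) 1) 2058)
      (cond (Nat.beq (tget Top.Tb ((fixA.getD l []).getD i 0) l) ((fixA.getD l []).getD i 0))
        (allBelow 6 43 fun i' => cond (Nat.beq ((fixA.getD l []).getD i 0)
          ((fixA.getD l []).getD i' 0)) (Nat.beq i i') true) false) false) false) = true := by
  decide +kernel

theorem fixG_all : allBelow 12 2058 (fun i => cond (Nat.beq (tget Top.Tb i 6) i)
    (anyL (fun q => Nat.beq q i) fixG) true) = true := by decide +kernel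

theorem not_conj_Z {l : Nat} (hl : l < 3) (x : Cfsg.Spor.He) : x * Z * x⁻¹ ≠ fl Lg l := by
  intro he
  have h := cond_false_eq_true.mp (of_allBelow fix_counts l hl)
  have hp : ∀ i : Fin 43, (fixA.getD l []).getD i 0 < 2058 := fun i =>
    Nat.ble_eq.mp (cond_false_eq_true.mp (of_allBelow h.2 i i.2)).1
  have hfix : ∀ i : Fin 43, ρ (fl Lg l) ⟨_, hp i⟩ = ⟨_, hp i⟩ := by
    intro i
    have hh := (cond_false_eq_true.mp
      (cond_false_eq_true.mp (of_allBelow h.2 i i.2)).2).1
    have hll : ∀ x ∈ [l], x < (Lg).length := fun x hx => by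
      rw [List.mem_singleton.mp hx, len_Lg]; omega
    have := (matches_ρ.fix_iff (w := [l]) hll (i := ⟨_, hp i⟩)).mpr (Nat.eq_of_beq_eq_true hh)
    rwa [ev_cons, ev_nil, mul_one] at this
  let g : Fin 43 → {q : Fin 2058 // ρ Z q = q} := fun i => ⟨ρ x⁻¹ ⟨_, hp i⟩, by
    have e : Z * x⁻¹ = x⁻¹ * fl Lg l := by rw [← he]; group
    rw [← Equiv.Perm.mul_apply, ← map_mul, e, map_mul, Equiv.Perm.mul_apply, hfix]⟩
  have ginj : Function.Injective g := by
    intro i j hij
    have e := Fin.mk.injEq _ _ _ _ ▸ (ρ x⁻¹).injective (congrArg Subtype.val hij)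
    have hh := (cond_false_eq_true.mp
      (cond_false_eq_true.mp (of_allBelow h.2 i i.2)).2).2
    have := of_allBelow hh j j.2
    rw [e, Nat.beq_refl, cond_true] at this
    exact Fin.ext (Nat.eq_of_beq_eq_true this)
  let f : {q : Fin 2058 // ρ Z q = q} → {q : Nat // q ∈ fixG} := fun q => ⟨q.1.val, by
    have hh := of_allBelow fixG_all q.1 q.1.2
    rw [show Nat.beq (tget Top.Tb q.1 6) q.1 = true from by
      rw [(fix_iff q.1).mp q.2]; exact Nat.beq_refl _, cond_true] at hh
    obtain ⟨r, hr, hre⟩ := anyL_iff.mp hh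
    rwa [← Nat.eq_of_beq_eq_true hre]⟩
  have finj : Function.Injective f := fun a b e =>
    Subtype.ext (Fin.ext (congrArg (fun q : {q : Nat // q ∈ fixG} => q.1) e))
  have : Finite {q : Nat // q ∈ fixG} :=
    Finite.of_equiv {q : Nat // q ∈ fixG.toFinset}
      (Equiv.subtypeEquivRight fun q => List.mem_toFinset)
  have h1 := Nat.card_le_card_of_injective _ (finj.comp ginj)
  rw [Nat.card_fin] at h1
  have h2 : Nat.card {q : Nat // q ∈ fixG} ≤ 42 := by
    rw [Nat.card_congr (Equiv.subtypeEquivRight fun q => (List.mem_toFinset (l := fixG)).symm),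
      Nat.card_eq_fintype_card, Fintype.card_coe]
    exact (List.toFinset_card_le fixG).trans (by simp [fixG])
  omega

/-- A word read backwards gives the inverse. -/
theorem ev_reverse (w : List Nat) : ev Lg w.reverse = (ev Lg w)⁻¹ := by
  induction w with
  | nil => simp
  | cons k w ih =>
    rw [List.reverse_cons, ev_append, ih, ev_cons, ev_cons, ev_nil, mul_one, mul_inv_rev,
      inv_eq_of_mul_eq_one_right (sq_all k)]

theorem RB_ok : allList (fun r => cond (Nat.ble (Nat.add r.2.2 1) 21504)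
    (cond (checkLetters 7 [r.2.1 ++ 6 :: r.2.1.reverse]) (cond (eqv (elf r.2.2) (app r.1))
      (allList (fun b => Nat.beq (follow (tget Top.Tb) b (flatC (elW r.2.2)))
        (follow (tget Top.Tb) b (r.2.1 ++ 6 :: r.2.1.reverse))) [5, 6, 15, 42]) false) false) false)
    RB = true := by decide +kernel

theorem IB_ok : allList (fun c => cond (Nat.ble (Nat.add c.2.1 1) RB.length)
    (conjOK [] c.1 (RB.getD c.2.1 (0, [], 0)).1 c.2.2) false) IB = true := by decide +kernel

theorem conjOK_spec {pre : List Nat} {p r k : Nat} (h : conjOK pre p r k = true) {x : Cz}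
    (hx : Rep x (app p)) : Rep ((el k)⁻¹ * x * el k) (app r) ∧
      ∀ q ∈ pre, ∀ y : Cz, Rep y (app q) → (el k)⁻¹ * y * el k = y := by
  obtain ⟨h1, h2⟩ := cond_false_eq_true.mp h
  obtain ⟨h2, h3⟩ := cond_false_eq_true.mp h2
  have hk := rep_el (Nat.ble_eq.mp h1)
  refine ⟨fun v => ?_, fun q hq y hy => ?_⟩
  · obtain ⟨u, rfl⟩ := sg_surj (el k) v
    rw [← sg_mul, show el k * ((el k)⁻¹ * x * el k) = x * el k by group, sg_mul, hk (sg x u),
      hx u, hk u]
    exact eqv_iff.mp h3 u
  · have := (hy.mul hk).ext (hk.mul hy) (allList_iff.mp h2 q hq)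
    rw [mul_assoc, this, inv_mul_cancel_left]

theorem IB_isConj {p : Nat} (hp : p ∈ IB.map Prod.fst) {x : Cz} (hx : Rep x (app p)) :
    ∃ y : Cfsg.Spor.He, y * Z * y⁻¹ = (x : Cfsg.Spor.He) := by
  obtain ⟨c, hc, rfl⟩ := List.mem_map.mp hp
  obtain ⟨hlen, hk⟩ := cond_false_eq_true.mp (allList_iff.mp IB_ok c hc)
  have hrep := (conjOK_spec hk hx).1
  have hlen' : c.2.1 + 1 ≤ RB.length := Nat.ble_eq.mp hlen
  have hrm : RB.getD c.2.1 (0, [], 0) ∈ RB := by
    rw [List.getD_eq_getElem _ _ (by omega)]; exact List.getElem_mem _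
  obtain ⟨r1, r2⟩ := cond_false_eq_true.mp (allList_iff.mp RB_ok _ hrm)
  obtain ⟨r2, r3⟩ := cond_false_eq_true.mp r2
  obtain ⟨r3, r4⟩ := cond_false_eq_true.mp r3
  generalize RB.getD c.2.1 (0, [], 0) = r at *
  have he : (el c.2.2)⁻¹ * x * el c.2.2 = el r.2.2 :=
    hrep.ext ((rep_el (Nat.ble_eq.mp r1)).congr r3) (eqv_iff.mpr fun _ => rfl)
  have e2 : ev Lg (flatC (elW r.2.2)) = ev Lg (r.2.1 ++ 6 :: r.2.1.reverse) :=
    matches_ρ.ev_eq_of_base base_bot (flatC_letters _) r2 r4
  rw [← coe_el, ← he, ev_append, ev_cons, ev_reverse] at e2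
  simp only [Subgroup.coe_mul, Subgroup.coe_inv] at e2
  refine ⟨(el c.2.2 : Cfsg.Spor.He) * ev Lg r.2.1, ?_⟩
  have hz : fl Lg 6 = Z := by simp [Z]
  rw [hz] at e2
  calc (el c.2.2 : Cfsg.Spor.He) * ev Lg r.2.1 * Z * ((el c.2.2 : Cfsg.Spor.He) * ev Lg r.2.1)⁻¹
      = (el c.2.2 : Cfsg.Spor.He) * (ev Lg r.2.1 * (Z * (ev Lg r.2.1)⁻¹)) *
          (el c.2.2 : Cfsg.Spor.He)⁻¹ := by group
    _ = (x : Cfsg.Spor.He) := by rw [← e2]; group

theorem exists_cand (ψ : MulAut Cfsg.Spor.He) (h : ψ Z = Z) {j : Nat} (hj : j < 4) :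
    ∃ p ∈ candsAt j, Rep (res ψ h (fl Lc j)) (app p) := by
  have hsq : fl Lc j * fl Lc j = 1 ∧ fl Lc j ≠ 1 := by
    have hr := rep_std hj
    have hchk : allBelow 3 4 (fun l => cond (isId (fun v => app (stdP.getD l 0) (app (stdP.getD l 0) v)))
        (cond (isId (app (stdP.getD l 0))) false true) false) = true := by decide +kernel
    obtain ⟨c1, c2⟩ := cond_false_eq_true.mp (of_allBelow hchk j hj)
    refine ⟨(hr.mul hr).isId_iff.mp c1, fun e => ?_⟩
    rw [hr.isId_iff.mpr e, cond_true] at c2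
    exact Bool.false_ne_true c2
  obtain ⟨p, hp, hr⟩ := inv_mem (x := res ψ h (fl Lc j)) (by rw [← map_mul, hsq.1, map_one])
    (fun e => hsq.2 (res_injective ψ h (by rw [e, map_one])))
  by_cases h3 : j < 3
  · refine ⟨p, ?_, hr⟩
    rw [candsAt, show Nat.ble (Nat.add j 1) 3 = true from Nat.ble_eq.mpr h3, cond_true]
    rcases List.mem_append.mp hp with hp | hp
    · exact hp
    · exfalso
      obtain ⟨y, hy⟩ := IB_isConj hp hr
      rw [coe_res] at hy
      have hcg : ((fl Lc j : Cz) : Cfsg.Spor.He) = fl Lg j := by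
        rw [coe_fl]
        interval_cases j <;> simp [Cg]
      rw [hcg] at hy
      refine not_conj_Z h3 (ψ.symm y) (ψ.injective ?_)
      rw [map_mul, map_mul, map_inv, MulEquiv.apply_symm_apply, h, hy]
  · refine ⟨p, ?_, hr⟩
    have : Nat.ble (Nat.add j 1) 3 = false := by
      cases hh : Nat.ble (Nat.add j 1) 3
      · rfl
      · exact absurd (show j + 1 ≤ 3 from Nat.ble_eq.mp hh) (by omega)
    rw [candsAt, this, cond_false]
    exact hp

theorem ev_range_map (f : Cz →* Cz) {n : Nat} :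
    ∀ u : List Nat, (∀ l ∈ u, l < n) →
      ev ((List.range n).map fun l => f (fl Lc l)) u = f (ev Lc u)
  | [], _ => by simp
  | l :: u, hu => by
    rw [ev_cons, ev_cons, map_mul, ev_range_map f u fun x hx => hu x (by simp [hx])]
    congr 1
    rw [fl, List.getD_eq_getElem _ _ (by simpa using hu l (by simp))]
    simp

/-- One step down the tree of images. -/
theorem node {pre R : List Nat} {certs : List (Nat × Nat × Nat)} {ts : List (List Nat × Bool)}
    (hj : pre.length < 4) (hts : stdOK pre.length ts = true)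
    (hok : stepOK pre (candsAt pre.length) ts certs R = true)
    (hR : ∀ r ∈ R, Norm (pre ++ [r])) : Norm pre := by
  intro ψ h hpre
  obtain ⟨p, hp, hr⟩ := exists_cand ψ h hj
  obtain ⟨hl, hstd⟩ := cond_false_eq_true.mp hts
  have hreps : ∀ l < ((List.range (pre.length + 1)).map fun l => res ψ h (fl Lc l)).length,
      Rep (fl ((List.range (pre.length + 1)).map fun l => res ψ h (fl Lc l)) l)
        (app ((pre ++ [p]).getD l 0)) := by
    intro l hl'
    rw [fl, List.getD_eq_getElem _ _ hl']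
    simp only [List.getElem_map, List.getElem_range]
    simp only [List.length_map, List.length_range] at hl'
    rcases Nat.lt_succ_iff_lt_or_eq.mp hl' with hlt | rfl
    · rw [List.getD_append _ _ _ _ hlt]; exact hpre l hlt
    · rw [List.getD_append_right _ _ _ _ le_rfl, Nat.sub_self]; exact hr
  have htest : testsOK (pre ++ [p]) ts = true := by
    refine allList_iff.mpr fun t ht => ?_
    have hlt : ∀ x ∈ t.1, x < pre.length + 1 :=
      letters_lt hl t.1 (List.mem_map.mpr ⟨t, ht, rfl⟩)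
    have h1 := Rep.ev_fol hreps t.1 (fun x hx => by simpa using hlt x hx)
    rw [ev_range_map (res ψ h) t.1 hlt] at h1
    have h2 := Rep.ev_fol (L := Lc) (ps := stdP) (fun l hl => rep_std (by rwa [len_Lc] at hl)) t.1
      (fun x hx => by rw [len_Lc]; have := hlt x hx; omega)
    have hiff : isId (fol (pre ++ [p]) t.1) = isId (fol stdP t.1) := by
      rw [Bool.eq_iff_iff, h1.isId_iff, h2.isId_iff]
      exact map_eq_one_iff _ (res_injective ψ h)
    rw [hiff]
    exact allList_iff.mp hstd t ht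
  have hs := allList_iff.mp hok p hp
  rw [htest, cond_true] at hs
  obtain ⟨c, -, hc⟩ := anyL_iff.mp hs
  obtain ⟨hc1, hc2⟩ := cond_false_eq_true.mp hc
  obtain ⟨hc2, hc3⟩ := cond_false_eq_true.mp hc2
  obtain ⟨hnew, hold⟩ := conjOK_spec hc3 hr
  let y : Cfsg.Spor.He := ((el c.2.2)⁻¹ : Cz)
  have h' : (MulAut.conj y * ψ) Z = Z := by
    rw [MulAut.mul_apply, h, MulAut.conj_apply,
      Subgroup.mem_centralizer_singleton_iff.mp ((el c.2.2)⁻¹).2, mul_inv_cancel_right]
  have hres : ∀ z, res (MulAut.conj y * ψ) h' z = (el c.2.2)⁻¹ * res ψ h z * el c.2.2 := fun z =>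
    Subtype.ext (by simp [coe_res, y])
  refine Good.of_conj (y := y) (hR (R.getD c.2.1 0) ?_ _ h' fun j hj' => ?_)
  · rw [List.getD_eq_getElem _ _ (Nat.ble_eq.mp hc2)]; exact List.getElem_mem _
  · rw [hres]
    rw [List.length_append, List.length_singleton] at hj'
    rcases Nat.lt_succ_iff_lt_or_eq.mp hj' with hlt | rfl
    · rw [List.getD_append _ _ _ _ hlt]
      have := hpre j hlt
      rwa [hold (pre.getD j 0) (by rw [List.getD_eq_getElem _ _ hlt]; exact List.getElem_mem _) _
        this]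
    · rw [List.getD_append_right _ _ _ _ le_rfl, Nat.sub_self]
      exact hnew

end CfsgLib.Coset.He.Out
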