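import Cfsg.Agent.Coset.He.Out.Leaf

/-! The tree of images of the generators of the centraliser. -/

set_option autoImplicit false
set_option maxRecDepth 100000
set_option Elab.async false

namespace CfsgLib.Coset.He.Out

open CfsgLib.Coset Inv2B

/-- The first live leaf. -/
def pre1 : List Nat := P3 ++ [R3.getD 0 0]

/-- The second live leaf. -/
def pre2 : List Nat := P4 ++ [R4.getD 0 0]

theorem n22 : Norm P22 :=
  node (pre := P22) (R := R22) (certs := C22) (ts := tests2) (by decide) (by decide +kernel)
    (by decide +kernel) (by simp [R22])

theorem n21 : Norm P21 :=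
  node (pre := P21) (R := R21) (certs := C21) (ts := tests2) (by decide) (by decide +kernel)
    (by decide +kernel) (by simp [R21])

theorem n20 : Norm P20 :=
  node (pre := P20) (R := R20) (certs := C20) (ts := tests3) (by decide) (by decide +kernel)
    (by decide +kernel) (by simp [R20])

theorem n19 : Norm P19 :=
  node (pre := P19) (R := R19) (certs := C19) (ts := tests3) (by decide) (by decide +kernel)
    (by decide +kernel) (by simp [R19])

theorem n18 : Norm P18 :=
  node (pre := P18) (R := R18) (certs := C18) (ts := tests2) (by decide) (by decide +kernel)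
    (by decide +kernel)
    (List.forall_mem_cons.mpr ⟨n19, List.forall_mem_singleton.mpr (n20)⟩)

theorem n17 : Norm P17 :=
  node (pre := P17) (R := R17) (certs := C17) (ts := tests3) (by decide) (by decide +kernel)
    (by decide +kernel) (by simp [R17])

theorem n16 : Norm P16 :=
  node (pre := P16) (R := R16) (certs := C16) (ts := tests3) (by decide) (by decide +kernel)
    (by decide +kernel) (by simp [R16])

theorem n15 : Norm P15 :=
  node (pre := P15) (R := R15) (certs := C15) (ts := tests2) (by decide) (by decide +kernel)
    (by decide +kernel)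
    (List.forall_mem_cons.mpr ⟨n16, List.forall_mem_singleton.mpr (n17)⟩)

theorem n14 : Norm P14 :=
  node (pre := P14) (R := R14) (certs := C14) (ts := tests2) (by decide) (by decide +kernel)
    (by decide +kernel) (by simp [R14])

theorem n13 : Norm P13 :=
  node (pre := P13) (R := R13) (certs := C13) (ts := tests1) (by decide) (by decide +kernel)
    (by decide +kernel)
    (List.forall_mem_cons.mpr ⟨n14, List.forall_mem_cons.mpr ⟨n15, List.forall_mem_cons.mpr ⟨n18, List.forall_mem_cons.mpr ⟨n21, List.forall_mem_singleton.mpr (n22)⟩⟩⟩⟩)

theorem n12 : Norm P12 :=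
  node (pre := P12) (R := R12) (certs := C12) (ts := tests2) (by decide) (by decide +kernel)
    (by decide +kernel) (by simp [R12])

theorem n11 : Norm P11 :=
  node (pre := P11) (R := R11) (certs := C11) (ts := tests2) (by decide) (by decide +kernel)
    (by decide +kernel) (by simp [R11])

theorem n10 : Norm P10 :=
  node (pre := P10) (R := R10) (certs := C10) (ts := tests3) (by decide) (by decide +kernel)
    (by decide +kernel) (by simp [R10])

theorem n9 : Norm P9 :=
  node (pre := P9) (R := R9) (certs := C9) (ts := tests2) (by decide) (by decide +kernel)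
    (by decide +kernel) (List.forall_mem_singleton.mpr (n10))

theorem n8 : Norm P8 :=
  node (pre := P8) (R := R8) (certs := C8) (ts := tests3) (by decide) (by decide +kernel)
    (by decide +kernel) (by simp [R8])

theorem n7 : Norm P7 :=
  node (pre := P7) (R := R7) (certs := C7) (ts := tests2) (by decide) (by decide +kernel)
    (by decide +kernel) (List.forall_mem_singleton.mpr (n8))

theorem n6 : Norm P6 :=
  node (pre := P6) (R := R6) (certs := C6) (ts := tests3) (by decide) (by decide +kernel)
    (by decide +kernel) (by simp [R6])

theorem n5 : Norm P5 :=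
  node (pre := P5) (R := R5) (certs := C5) (ts := tests3) (by decide) (by decide +kernel)
    (by decide +kernel) (by simp [R5])

theorem n4 (h2 : Norm pre2) : Norm P4 :=
  node (pre := P4) (R := R4) (certs := C4) (ts := tests3) (by decide) (by decide +kernel)
    (by decide +kernel) (List.forall_mem_singleton.mpr h2)

theorem n3 (h1 : Norm pre1) : Norm P3 :=
  node (pre := P3) (R := R3) (certs := C3) (ts := tests3) (by decide) (by decide +kernel)
    (by decide +kernel) (List.forall_mem_singleton.mpr h1)

theorem n2 (h1 : Norm pre1) (h2 : Norm pre2) : Norm P2 :=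
  node (pre := P2) (R := R2) (certs := C2) (ts := tests2) (by decide) (by decide +kernel)
    (by decide +kernel)
    (List.forall_mem_cons.mpr ⟨n3 h1, List.forall_mem_cons.mpr ⟨n4 h2, List.forall_mem_cons.mpr ⟨n5, List.forall_mem_singleton.mpr (n6)⟩⟩⟩)

theorem n1 (h1 : Norm pre1) (h2 : Norm pre2) : Norm P1 :=
  node (pre := P1) (R := R1) (certs := C1) (ts := tests1) (by decide) (by decide +kernel)
    (by decide +kernel)
    (List.forall_mem_cons.mpr ⟨n2 h1 h2, List.forall_mem_cons.mpr ⟨n7, List.forall_mem_cons.mpr ⟨n9, List.forall_mem_cons.mpr ⟨n11, List.forall_mem_singleton.mpr (n12)⟩⟩⟩⟩)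

theorem n0 (h1 : Norm pre1) (h2 : Norm pre2) : Norm P0 :=
  node (pre := P0) (R := R0) (certs := C0) (ts := tests0) (by decide) (by decide +kernel)
    (by decide +kernel)
    (List.forall_mem_cons.mpr ⟨n1 h1 h2, List.forall_mem_singleton.mpr (n13)⟩)

end CfsgLib.Coset.He.Out
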